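import Mathlib.NumberTheory.Multiplicity
import Mathlib.NumberTheory.LSeries.PrimesInAP
import Mathlib.RingTheory.ZMod.UnitsCyclic
import Mathlib.Algebra.BigOperators.Intervals
import Mathlib.Data.Nat.Factorization.Basic

/-! The gcd of the numbers `∏_{a ≤ g} (ℓ^{2a} - 1)` over the large primes `ℓ`. -/

set_option autoImplicit false

namespace K928.GcdN

open Finset

theorem val_prod {ι : Type*} {p : ℕ} [hp : Fact p.Prime] (s : Finset ι) (f : ι → ℕ)
    (hf : ∀ i ∈ s, f i ≠ 0) : padicValNat p (∏ i ∈ s, f i) = ∑ i ∈ s, padicValNat p (f i) := by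
  classical
  induction s using Finset.induction_on with
  | empty => simp
  | insert a s ha ih =>
    rw [Finset.prod_insert ha, Finset.sum_insert ha, padicValNat.mul
      (hf a (Finset.mem_insert_self a s))
      (Finset.prod_ne_zero_iff.mpr fun i hi => hf i (Finset.mem_insert_of_mem hi)),
      ih (fun i hi => hf i (Finset.mem_insert_of_mem hi))]

/-- the valuation of `N(g)`. -/
def vN (g p : ℕ) : ℕ :=
  if p = 2 then 3 * g + padicValNat 2 g.factorial
  else (2 * g) / (p - 1) + ∑ i ∈ Icc 1 ((2 * g) / (p - 1)), padicValNat p i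

/-- `N(g)`. -/
def N (g : ℕ) : ℕ :=
  2 ^ (3 * g + padicValNat 2 g.factorial) *
        ∏ p ∈ (Icc 3 (2 * g + 1)).filter Nat.Prime,
          p ^ ((2 * g) / (p - 1) + ∑ i ∈ Icc 1 ((2 * g) / (p - 1)), padicValNat p i)

theorem N_ne_zero (g : ℕ) : N g ≠ 0 := by
  apply mul_ne_zero (by positivity)
  rw [Finset.prod_ne_zero_iff]
  intro p hp
  have : p.Prime := (Finset.mem_filter.mp hp).2
  exact pow_ne_zero _ this.ne_zero

theorem val_N (g p : ℕ) [hp : Fact p.Prime] : padicValNat p (N g) = vN g p := by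
  rw [N, padicValNat.mul (by positivity) (by
    rw [Finset.prod_ne_zero_iff]
    intro p hp
    have : p.Prime := (Finset.mem_filter.mp hp).2
    exact pow_ne_zero _ this.ne_zero), val_prod _ _ (by
    intro p hp
    have : p.Prime := (Finset.mem_filter.mp hp).2
    exact pow_ne_zero _ this.ne_zero), padicValNat.pow]
  have h1 : ∀ q ∈ (Icc 3 (2 * g + 1)).filter Nat.Prime,
      padicValNat p (q ^ ((2 * g) / (q - 1) + ∑ i ∈ Icc 1 ((2 * g) / (q - 1)), padicValNat q i)) =
      if q = p then (2 * g) / (p - 1) + ∑ i ∈ Icc 1 ((2 * g) / (p - 1)), padicValNat p i else 0 := by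
    intro q hq
    have hqp : q.Prime := (Finset.mem_filter.mp hq).2
    rw [padicValNat.pow]
    split_ifs with h
    · subst h
      rw [padicValNat_self, mul_one]
    · have : Fact q.Prime := ⟨hqp⟩
      rw [padicValNat_primes (Ne.symm h), mul_zero]
  rw [Finset.sum_congr rfl h1, Finset.sum_ite_eq', vN]
  by_cases hp2 : p = 2
  · subst hp2
    rw [if_pos rfl, padicValNat_self, mul_one, if_neg, add_zero]
    intro h
    have := (Finset.mem_Icc.mp (Finset.mem_filter.mp h).1).1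
    omega
  · rw [if_neg hp2]
    have : padicValNat p 2 = 0 := by
      have : Fact (Nat.Prime 2) := ⟨Nat.prime_two⟩
      exact padicValNat_primes hp2
    rw [this, mul_zero, zero_add]
    split_ifs with h
    · rfl
    · have hbig : ¬ p ≤ 2 * g + 1 := by
        intro hle
        apply h
        rw [Finset.mem_filter, Finset.mem_Icc]
        have := hp.out.two_le
        exact ⟨⟨by omega, hle⟩, hp.out⟩
      have h0 : (2 * g) / (p - 1) = 0 := Nat.div_eq_of_lt (by omega)
      rw [h0]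
      simp

/-- `P(ℓ)` -/
def P (g l : ℕ) : ℕ := ∏ a ∈ Icc 1 g, (l ^ (2 * a) - 1)

theorem term_ne_zero {l a : ℕ} (hl : 2 ≤ l) (ha : 1 ≤ a) : l ^ (2 * a) - 1 ≠ 0 := by
  have : 2 ^ 1 ≤ l ^ (2 * a) :=
    (Nat.pow_le_pow_left hl 1).trans (Nat.pow_le_pow_right (by omega) (by omega))
  omega

theorem P_ne_zero {g l : ℕ} (hl : 2 ≤ l) : P g l ≠ 0 := by
  rw [P, Finset.prod_ne_zero_iff]
  intro a ha
  exact term_ne_zero hl (Finset.mem_Icc.mp ha).1

theorem val_two (g l : ℕ) (hl : l.Prime) (hl2 : 2 < l) :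
    padicValNat 2 (P g l) = (padicValNat 2 (l + 1) + padicValNat 2 (l - 1)) * g +
      padicValNat 2 g.factorial := by
  have h2 : Fact (Nat.Prime 2) := ⟨Nat.prime_two⟩
  have hodd : ¬ 2 ∣ l := by
    intro h
    have := (Nat.prime_dvd_prime_iff_eq Nat.prime_two hl).mp h
    omega
  rw [P, val_prod _ _ (fun a ha => term_ne_zero (by omega) (Finset.mem_Icc.mp ha).1)]
  have h1 : ∀ a ∈ Icc 1 g, padicValNat 2 (l ^ (2 * a) - 1) =
      (padicValNat 2 (l + 1) + padicValNat 2 (l - 1)) + padicValNat 2 a := by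
    intro a ha
    have ha1 := (Finset.mem_Icc.mp ha).1
    have h3 := padicValNat.pow_two_sub_pow (x := l) (y := 1) (by omega) (by omega) hodd
      (n := 2 * a) (by omega) (even_two_mul a)
    rw [one_pow, padicValNat.mul (by norm_num) (by omega), padicValNat_self] at h3
    omega
  rw [Finset.sum_congr rfl h1, Finset.sum_add_distrib, Finset.sum_const, Nat.card_Icc,
    ← val_prod _ _ (fun a ha => by have := (Finset.mem_Icc.mp ha).1; omega),
    show Icc 1 g = Ico 1 (g + 1) from rfl, Finset.prod_Ico_id_eq_factorial]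
  simp [mul_comm]

theorem three_le {l : ℕ} (hl : l.Prime) (hl2 : 2 < l) :
    3 ≤ padicValNat 2 (l + 1) + padicValNat 2 (l - 1) := by
  have h2 : Fact (Nat.Prime 2) := ⟨Nat.prime_two⟩
  have hodd : ¬ 2 ∣ l := by
    intro h
    have := (Nat.prime_dvd_prime_iff_eq Nat.prime_two hl).mp h
    omega
  rw [← padicValNat.mul (by omega) (by omega), ← padicValNat_dvd_iff_le (by
    apply mul_ne_zero <;> omega)]
  obtain ⟨c, hc⟩ : ∃ c, l = 2 * c + 1 := ⟨l / 2, by omega⟩
  subst hc
  have h3 : 2 * c + 1 + 1 = 2 * (c + 1) := by ring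
  have h4 : 2 * c + 1 - 1 = 2 * c := by omega
  rw [h3, h4]
  have h5 : 2 * (c + 1) * (2 * c) = 4 * (c * (c + 1)) := by ring
  rw [h5, show 2 ^ 3 = 4 * 2 by norm_num]
  exact mul_dvd_mul_left 4 (Nat.even_mul_succ_self c).two_dvd

/-- reindexing the multiples of `q`. -/
theorem sum_multiples (g q : ℕ) (hq : 0 < q) (F : ℕ → ℕ) :
    ∑ a ∈ (Icc 1 g).filter (q ∣ ·), F a = ∑ j ∈ Icc 1 (g / q), F (q * j) := by
  symm
  apply Finset.sum_bij (fun j _ => q * j)
  · intro j hj
    rw [Finset.mem_Icc] at hj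
    rw [Finset.mem_filter, Finset.mem_Icc]
    refine ⟨⟨?_, ?_⟩, Dvd.intro _ rfl⟩
    · have : 1 * 1 ≤ q * j := Nat.mul_le_mul hq hj.1
      omega
    · calc q * j ≤ q * (g / q) := Nat.mul_le_mul_left q hj.2
        _ ≤ g := Nat.mul_div_le g q
  · intro a _ b _ hab
    exact Nat.eq_of_mul_eq_mul_left hq hab
  · intro b hb
    rw [Finset.mem_filter, Finset.mem_Icc] at hb
    obtain ⟨⟨h1, h2⟩, c, rfl⟩ := hb
    refine ⟨c, ?_, rfl⟩
    rw [Finset.mem_Icc]
    constructor
    · rcases Nat.eq_zero_or_pos c with rfl | h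
      · simp at h1
      · exact h
    · rw [Nat.le_div_iff_mul_le hq, mul_comm]; exact h2
  · intro a _; rfl

theorem val_odd_split (g l p : ℕ) [hp : Fact p.Prime] (hl : 2 ≤ l) :
    padicValNat p (P g l) = ∑ a ∈ Icc 1 g, padicValNat p (l ^ (2 * a) - 1) := by
  rw [P, val_prod _ _ (fun a ha => term_ne_zero (by omega) (Finset.mem_Icc.mp ha).1)]

theorem val_mult (l p j : ℕ) [hp : Fact p.Prime] (hp2 : p ≠ 2) (hl : 2 ≤ l) (hpl : ¬ p ∣ l)
    (hj : 1 ≤ j) :
    padicValNat p (l ^ ((p - 1) * j) - 1) = padicValNat p (l ^ (p - 1) - 1) + padicValNat p j := by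
  have hpodd : Odd p := hp.out.odd_of_ne_two hp2
  have hp3 : 3 ≤ p := by
    have := hp.out.two_le
    omega
  have hlt : 1 < l ^ (p - 1) := Nat.one_lt_pow (by omega) (by omega)
  have hdvd : p ∣ l ^ (p - 1) - 1 := by
    have hcop : Nat.Coprime l p := ((Nat.Prime.coprime_iff_not_dvd hp.out).mpr hpl).symm
    have h1 := Nat.ModEq.pow_totient hcop
    rw [Nat.totient_prime hp.out] at h1
    exact (Nat.modEq_iff_dvd' hlt.le).mp h1.symm
  have hnd : ¬ p ∣ l ^ (p - 1) := fun h => hpl (hp.out.dvd_of_dvd_pow h)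
  have := padicValNat.pow_sub_pow hpodd hlt hdvd hnd (n := j) (by omega)
  rw [one_pow, ← pow_mul] at this
  exact this

theorem one_le_val (l p : ℕ) [hp : Fact p.Prime] (hp2 : p ≠ 2) (hl : 2 ≤ l) (hpl : ¬ p ∣ l) :
    1 ≤ padicValNat p (l ^ (p - 1) - 1) := by
  have hp3 : 3 ≤ p := by
    have := hp.out.two_le
    omega
  have hlt : 1 < l ^ (p - 1) := Nat.one_lt_pow (by omega) (by omega)
  have hdvd : p ∣ l ^ (p - 1) - 1 := by
    have hcop : Nat.Coprime l p := ((Nat.Prime.coprime_iff_not_dvd hp.out).mpr hpl).symm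
    have h1 := Nat.ModEq.pow_totient hcop
    rw [Nat.totient_prime hp.out] at h1
    exact (Nat.modEq_iff_dvd' hlt.le).mp h1.symm
  exact one_le_padicValNat_of_dvd (by omega) hdvd

theorem multiples_sum (g l p : ℕ) [hp : Fact p.Prime] (hp2 : p ≠ 2) (hl : 2 ≤ l) (hpl : ¬ p ∣ l) :
    ∑ a ∈ (Icc 1 g).filter ((p - 1) / 2 ∣ ·), padicValNat p (l ^ (2 * a) - 1) =
      ∑ j ∈ Icc 1 ((2 * g) / (p - 1)), (padicValNat p (l ^ (p - 1) - 1) + padicValNat p j) := by
  have hpodd : Odd p := hp.out.odd_of_ne_two hp2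
  obtain ⟨q, hq⟩ := hpodd
  have hq1 : p - 1 = 2 * q := by omega
  have hq0 : 0 < q := by
    have := hp.out.two_le
    omega
  have hq2 : (p - 1) / 2 = q := by omega
  have hq3 : (2 * g) / (p - 1) = g / q := by
    rw [hq1, Nat.mul_div_mul_left _ _ (by norm_num)]
  rw [hq2, hq3, sum_multiples g q hq0]
  refine Finset.sum_congr rfl fun j hj => ?_
  rw [← val_mult l p j hp2 hl hpl (Finset.mem_Icc.mp hj).1, hq1, mul_assoc]

theorem lower (g l p : ℕ) [hp : Fact p.Prime] (hl : l.Prime) (hlg : 2 * g + 1 < l) :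
    vN g p ≤ padicValNat p (P g l) := by
  have hl2 := hl.two_le
  rw [vN]
  split_ifs with h2
  · subst h2
    rcases Nat.eq_zero_or_pos g with rfl | hg
    · simp
    · rw [val_two g l hl (by omega)]
      have := three_le hl (by omega)
      have : 3 * g ≤ (padicValNat 2 (l + 1) + padicValNat 2 (l - 1)) * g :=
        Nat.mul_le_mul_right g this
      omega
  · by_cases hpl : p ∣ l
    · have hpl' : p = l := (Nat.prime_dvd_prime_iff_eq hp.out hl).mp hpl
      subst hpl'
      have : (2 * g) / (p - 1) = 0 := Nat.div_eq_of_lt (by omega)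
      rw [this]; simp
    · rw [val_odd_split g l p hl2]
      calc (2 * g) / (p - 1) + ∑ i ∈ Icc 1 ((2 * g) / (p - 1)), padicValNat p i
          = ∑ i ∈ Icc 1 ((2 * g) / (p - 1)), (1 + padicValNat p i) := by
            rw [Finset.sum_add_distrib, Finset.sum_const, Nat.card_Icc]; simp
        _ ≤ ∑ i ∈ Icc 1 ((2 * g) / (p - 1)), (padicValNat p (l ^ (p - 1) - 1) + padicValNat p i) :=
            Finset.sum_le_sum fun i _ => Nat.add_le_add_right (one_le_val l p h2 hl2 hpl) _
        _ = ∑ a ∈ (Icc 1 g).filter ((p - 1) / 2 ∣ ·), padicValNat p (l ^ (2 * a) - 1) :=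
            (multiples_sum g l p h2 hl2 hpl).symm
        _ ≤ ∑ a ∈ Icc 1 g, padicValNat p (l ^ (2 * a) - 1) :=
            Finset.sum_le_sum_of_subset (Finset.filter_subset _ _)

/-- A prime which is a primitive root mod `p²`. -/
theorem exists_prime_odd (B p : ℕ) [hp : Fact p.Prime] (hp2 : p ≠ 2) :
    ∃ l, B < l ∧ l.Prime ∧ ¬ p ∣ l ∧ ∀ m : ℕ, p ^ 2 ∣ l ^ m - 1 → p * (p - 1) ∣ m := by
  have hcyc := ZMod.isCyclic_units_of_prime_pow p hp.out hp2 2
  obtain ⟨u, hu⟩ := hcyc.exists_generator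
  have : NeZero (p ^ 2) := ⟨pow_ne_zero _ hp.out.ne_zero⟩
  obtain ⟨l, hl, hlp, hlu⟩ := Nat.forall_exists_prime_gt_and_eq_mod (u.isUnit) B
  refine ⟨l, hl, hlp, ?_, ?_⟩
  · intro hpl
    have h1 : IsUnit ((l : ZMod (p ^ 2))) := by rw [hlu]; exact u.isUnit
    rw [ZMod.isUnit_iff_coprime] at h1
    have h2 : Nat.Coprime l p := (Nat.coprime_pow_right_iff (by norm_num) l p).mp h1
    have := Nat.dvd_gcd hpl (dvd_refl p)
    rw [h2] at this
    exact hp.out.one_lt.ne' (Nat.dvd_one.mp this)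
  · intro m hm
    have h1 : (u : ZMod (p ^ 2)) ^ m = 1 := by
      rw [← hlu]
      have h2 : ((l ^ m - 1 : ℕ) : ZMod (p ^ 2)) = 0 := (ZMod.natCast_eq_zero_iff _ _).mpr hm
      rw [Nat.cast_sub (Nat.one_le_pow _ _ hlp.pos)] at h2
      push_cast at h2
      exact sub_eq_zero.mp h2
    have h3 : u ^ m = 1 := by
      apply Units.ext
      simpa using h1
    have h4 : orderOf u = p * (p - 1) := by
      rw [orderOf_eq_card_of_forall_mem_zpowers hu, Nat.card_eq_fintype_card,
        ZMod.card_units_eq_totient, Nat.totient_prime_pow hp.out (by norm_num)]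
      norm_num
    rw [← h4]
    exact orderOf_dvd_of_pow_eq_one h3

theorem exists_prime_two (B : ℕ) : ∃ l, B < l ∧ l.Prime ∧ 2 < l ∧
    padicValNat 2 (l + 1) + padicValNat 2 (l - 1) = 3 := by
  have h2 : Fact (Nat.Prime 2) := ⟨Nat.prime_two⟩
  obtain ⟨l, hl, hlp, hlm⟩ := Nat.forall_exists_prime_gt_and_modEq (max B 2) (q := 8) (a := 3)
    (by norm_num) (by norm_num)
  refine ⟨l, by omega, hlp, by omega, ?_⟩
  have h3 : l % 8 = 3 := hlm
  obtain ⟨c, hc⟩ : ∃ c, l = 8 * c + 3 := ⟨l / 8, by omega⟩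
  subst hc
  have h4 : padicValNat 2 (8 * c + 3 + 1) = 2 := by
    have : 8 * c + 3 + 1 = 2 ^ 2 * (2 * c + 1) := by ring
    rw [this, padicValNat.mul (by norm_num) (by omega), padicValNat.prime_pow,
      padicValNat.eq_zero_of_not_dvd (by omega)]
  have h5 : padicValNat 2 (8 * c + 3 - 1) = 1 := by
    have : 8 * c + 3 - 1 = 2 ^ 1 * (4 * c + 1) := by omega
    rw [this, padicValNat.mul (by norm_num) (by omega), padicValNat.prime_pow,
      padicValNat.eq_zero_of_not_dvd (by omega)]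
  rw [h4, h5]

theorem exists_prime (g B p : ℕ) [hp : Fact p.Prime] :
    ∃ l, B < l ∧ l.Prime ∧ padicValNat p (P g l) = vN g p := by
  rw [vN]
  split_ifs with h2
  · subst h2
    obtain ⟨l, hl, hlp, hl2, h3⟩ := exists_prime_two B
    refine ⟨l, hl, hlp, ?_⟩
    rw [val_two g l hlp hl2, h3]
  · obtain ⟨l, hl, hlp, hpl, hord⟩ := exists_prime_odd B p h2
    refine ⟨l, hl, hlp, ?_⟩
    have hpodd : Odd p := hp.out.odd_of_ne_two h2
    have hp3 : 3 ≤ p := by
      have := hp.out.two_le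
      omega
    have hlt : 1 < l ^ (p - 1) := Nat.one_lt_pow (by omega) hlp.one_lt
    -- valuation is exactly one
    have hv1 : padicValNat p (l ^ (p - 1) - 1) = 1 := by
      apply le_antisymm _ (one_le_val l p h2 hlp.two_le hpl)
      by_contra hgt
      have : p ^ 2 ∣ l ^ (p - 1) - 1 := by
        rw [padicValNat_dvd_iff_le (by omega)]
        omega
      have h3 := Nat.le_of_dvd (by omega) (hord _ this)
      have h4 : 3 * (p - 1) ≤ p * (p - 1) := Nat.mul_le_mul_right _ hp3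
      omega
    rw [val_odd_split g l p hlp.two_le,
      ← Finset.sum_filter_add_sum_filter_not (Icc 1 g) ((p - 1) / 2 ∣ ·),
      multiples_sum g l p h2 hlp.two_le hpl, hv1, Finset.sum_add_distrib, Finset.sum_const,
      Nat.card_Icc]
    have hzero : ∑ a ∈ (Icc 1 g).filter (fun a => ¬ (p - 1) / 2 ∣ a),
        padicValNat p (l ^ (2 * a) - 1) = 0 := by
      apply Finset.sum_eq_zero
      intro a ha
      rw [Finset.mem_filter, Finset.mem_Icc] at ha
      obtain ⟨⟨ha1, -⟩, ha2⟩ := ha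
      apply padicValNat.eq_zero_of_not_dvd
      intro hdvd
      apply ha2
      -- p² divides l^(2ap) - 1
      have hlt2 : 1 < l ^ (2 * a) := Nat.one_lt_pow (by omega) hlp.one_lt
      have hnd : ¬ p ∣ l ^ (2 * a) := fun h => hpl (hp.out.dvd_of_dvd_pow h)
      have h5 := padicValNat.pow_sub_pow hpodd hlt2 hdvd hnd (n := p) hp.out.ne_zero
      have h6 : 1 ≤ padicValNat p (l ^ (2 * a) - 1) :=
        one_le_padicValNat_of_dvd (by omega) hdvd
      rw [one_pow, padicValNat_self, ← pow_mul] at h5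
      have h7 : p ^ 2 ∣ l ^ (2 * a * p) - 1 := by
        have hlt3 : 1 < l ^ (2 * a * p) := Nat.one_lt_pow (by
          apply mul_ne_zero (by omega) hp.out.ne_zero) hlp.one_lt
        rw [padicValNat_dvd_iff_le (by omega)]
        omega
      have h8 := hord _ h7
      rw [mul_comm (2 * a) p] at h8
      have h9 : p - 1 ∣ 2 * a := Nat.dvd_of_mul_dvd_mul_left hp.out.pos h8
      obtain ⟨q, hq⟩ := hpodd
      have hq1 : p - 1 = 2 * q := by omega
      have hq2 : (p - 1) / 2 = q := by omega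
      rw [hq2]
      rw [hq1] at h9
      exact Nat.dvd_of_mul_dvd_mul_left (by norm_num) h9
    rw [hzero]
    simp

theorem main (g B d : ℕ) (hB : 2 * g + 1 ≤ B) :
    (∀ l : ℕ, l.Prime → B < l → d ∣ P g l) ↔ d ∣ N g := by
  constructor
  · intro h
    rw [Nat.dvd_iff_prime_pow_dvd_dvd]
    intro p k hp hpk
    have hfact : Fact p.Prime := ⟨hp⟩
    obtain ⟨l, hl, hlp, hval⟩ := exists_prime g B p
    have h1 := hpk.trans (h l hlp hl)
    rw [padicValNat_dvd_iff_le (P_ne_zero hlp.two_le), hval] at h1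
    rw [padicValNat_dvd_iff_le (N_ne_zero g), val_N]
    exact h1
  · intro h l hlp hl
    refine h.trans ?_
    rw [Nat.dvd_iff_prime_pow_dvd_dvd]
    intro p k hp hpk
    have hfact : Fact p.Prime := ⟨hp⟩
    rw [padicValNat_dvd_iff_le (N_ne_zero g), val_N] at hpk
    rw [padicValNat_dvd_iff_le (P_ne_zero hlp.two_le)]
    exact hpk.trans (lower g l p hlp (by omega))

end K928.GcdN
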