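import Mathlib.Algebra.Algebra.Operations
import Mathlib.Algebra.Group.Subgroup.Pointwise
import Mathlib.Algebra.Group.Pointwise.Finset.BigOperators

set_option autoImplicit false
universe u v w

namespace K928.UnipSup

open Pointwise

variable {K : Type u} {E : Type v} {G : Type w} [Field K] [Ring E] [Algebra K E] [Group G]

/-- The span of the elements `φ h - 1` for `h ∈ H`. -/
def aug (K : Type u) {E : Type v} {G : Type w} [Field K] [Ring E] [Algebra K E] [Group G]
    (φ : G →* E) (H : Subgroup G) : Submodule K E :=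
  Submodule.span K (Set.range fun h : H => φ h - 1)

theorem aug_pow_eq_bot_iff (φ : G →* E) (H : Subgroup G) (n : ℕ) :
    aug K φ H ^ n = ⊥ ↔ ∀ f : Fin n → H, (List.ofFn fun i => φ (f i) - 1).prod = 0 := by
  rw [aug, Submodule.span_pow, Submodule.span_eq_bot]
  constructor
  · intro h f
    apply h
    rw [Set.mem_pow]
    exact ⟨fun i => ⟨φ (f i) - 1, ⟨f i, rfl⟩⟩, rfl⟩
  · intro h x hx
    rw [Set.mem_pow] at hx
    obtain ⟨f, rfl⟩ := hx
    choose g hg using fun i => (f i).2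
    have := h g
    rw [← this]
    congr 1
    congr 1
    funext i
    exact (hg i).symm

/-- The span of the elements `φ h` for `h ∈ H`. -/
def spn (K : Type u) {E : Type v} {G : Type w} [Field K] [Ring E] [Algebra K E] [Group G]
    (φ : G →* E) (H : Subgroup G) : Submodule K E :=
  Submodule.span K (Set.range fun h : H => φ h)

theorem spn_mul_spn (φ : G →* E) (H : Subgroup G) : spn K φ H * spn K φ H ≤ spn K φ H := by
  rw [spn, Submodule.span_mul_span, Submodule.span_le]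
  rintro _ ⟨_, ⟨a, rfl⟩, _, ⟨b, rfl⟩, rfl⟩
  apply Submodule.subset_span
  exact ⟨a * b, by simp⟩

theorem aug_le_spn (φ : G →* E) {H H' : Subgroup G} (hH : H ≤ H') : aug K φ H ≤ spn K φ H' := by
  rw [aug, Submodule.span_le]
  rintro _ ⟨a, rfl⟩
  exact Submodule.sub_mem _ (Submodule.subset_span ⟨⟨a, hH a.2⟩, rfl⟩)
    (Submodule.subset_span ⟨1, by simp⟩)

theorem aug_mul_spn_le (φ : G →* E) {H₁ H : Subgroup G}
    (hnorm : ∀ g ∈ H, ∀ h ∈ H₁, g * h * g⁻¹ ∈ H₁) :
    aug K φ H₁ * spn K φ H ≤ spn K φ H * aug K φ H₁ := by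
  conv_lhs => rw [spn, aug, Submodule.span_mul_span]
  rw [Submodule.span_le]
  rintro _ ⟨_, ⟨a, rfl⟩, _, ⟨b, rfl⟩, rfl⟩
  have hmem : (b : G)⁻¹ * a * (b : G) ∈ H₁ := by
    have := hnorm (b : G)⁻¹ (H.inv_mem b.2) a a.2
    simpa using this
  have heq : (φ a - 1) * φ b = φ b * (φ ((b : G)⁻¹ * a * (b : G)) - 1) := by
    rw [mul_sub, sub_mul, ← map_mul, ← map_mul]
    simp [mul_assoc]
  simp only [SetLike.mem_coe]
  rw [heq]
  exact Submodule.mul_mem_mul (Submodule.subset_span ⟨b, rfl⟩)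
    (Submodule.subset_span ⟨⟨_, hmem⟩, rfl⟩)

theorem key (K : Type u) {E : Type v} {G : Type w} [Field K] [Ring E] [Algebra K E] [Group G]
    (φ : G →* E) (H₁ H₂ : Subgroup G)
    (hnorm : ∀ g ∈ H₂, ∀ h ∈ H₁, g * h * g⁻¹ ∈ H₁)
    (h₁ : ∃ n : ℕ, ∀ f : Fin n → H₁, (List.ofFn fun i => φ (f i) - 1).prod = 0)
    (h₂ : ∃ n : ℕ, ∀ f : Fin n → H₂, (List.ofFn fun i => φ (f i) - 1).prod = 0) :
    ∃ n : ℕ, ∀ f : Fin n → ↥(H₁ ⊔ H₂), (List.ofFn fun i => φ (f i) - 1).prod = 0 := by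
  obtain ⟨n₁, h₁⟩ := h₁
  obtain ⟨n₂, h₂⟩ := h₂
  rw [← aug_pow_eq_bot_iff (K := K)] at h₁ h₂
  set H : Subgroup G := H₁ ⊔ H₂ with hH
  have hle : H₂ ≤ Subgroup.normalizer (H₁ : Set G) := by
    intro g hg
    rw [Subgroup.mem_normalizer_iff]
    intro h
    constructor
    · exact fun hh => hnorm g hg h hh
    · intro hh
      have := hnorm g⁻¹ (H₂.inv_mem hg) _ hh
      simpa [mul_assoc] using this
  have hdec := Subgroup.coe_mul_of_right_le_normalizer_left H₁ H₂ hle
  have hH1 : H₁ ≤ H := le_sup_left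
  have hH2 : H₂ ≤ H := le_sup_right
  have hnormH : ∀ g ∈ H, ∀ h ∈ H₁, g * h * g⁻¹ ∈ H₁ := by
    have : H ≤ Subgroup.normalizer (H₁ : Set G) := sup_le Subgroup.le_normalizer hle
    intro g hg h hh
    exact (Subgroup.mem_normalizer_iff.mp (this hg) h).mp hh
  set R := spn K φ H with hR
  set A := aug K φ H₁ with hA
  set B := aug K φ H₂ with hB
  have hRR : R * R ≤ R := spn_mul_spn φ H
  have hAR : A * R ≤ R * A := aug_mul_spn_le φ hnormH
  have hA_R : A ≤ R := aug_le_spn φ hH1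
  have hB_R : B ≤ R := aug_le_spn φ hH2
  set J := R * A with hJ
  have hRJ : R * J ≤ J := by
    rw [hJ, ← mul_assoc]
    exact mul_le_mul' hRR le_rfl
  have hJR : J * R ≤ J := by
    calc J * R = R * (A * R) := by rw [hJ, mul_assoc]
      _ ≤ R * (R * A) := mul_le_mul' le_rfl hAR
      _ ≤ J := hRJ
  have hJ_R : J ≤ R := (mul_le_mul' le_rfl hA_R).trans hRR
  have hAnR : ∀ n : ℕ, A ^ n * R ≤ R * A ^ n := by
    intro n
    induction n with
    | zero => simp
    | succ n ih =>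
      calc A ^ (n + 1) * R = A ^ n * (A * R) := by rw [pow_succ, mul_assoc]
        _ ≤ A ^ n * (R * A) := mul_le_mul' le_rfl hAR
        _ = (A ^ n * R) * A := by rw [mul_assoc]
        _ ≤ (R * A ^ n) * A := mul_le_mul' ih le_rfl
        _ = R * A ^ (n + 1) := by rw [pow_succ, mul_assoc]
  have h1R : (1 : Submodule K E) ≤ R := by
    rw [Submodule.one_le]
    exact Submodule.subset_span ⟨1, by simp⟩
  have hJn : ∀ n : ℕ, J ^ n ≤ R * A ^ n := by
    intro n
    induction n with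
    | zero => simpa using h1R
    | succ n ih =>
      calc J ^ (n + 1) = J ^ n * (R * A) := by rw [pow_succ, hJ]
        _ ≤ (R * A ^ n) * (R * A) := mul_le_mul' ih le_rfl
        _ = R * ((A ^ n * R) * A) := by simp only [mul_assoc]
        _ ≤ R * ((R * A ^ n) * A) := mul_le_mul' le_rfl (mul_le_mul' (hAnR n) le_rfl)
        _ = (R * R) * A ^ (n + 1) := by rw [pow_succ]; simp only [mul_assoc]
        _ ≤ R * A ^ (n + 1) := mul_le_mul' hRR le_rfl
  have hJ0 : J ^ n₁ = ⊥ := by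
    rw [eq_bot_iff]
    refine (hJn n₁).trans ?_
    rw [h₁]
    simp
  have hC : aug K φ H ≤ B ⊔ J := by
    conv_lhs => rw [aug]
    rw [Submodule.span_le]
    rintro _ ⟨g, rfl⟩
    have hg : (g : G) ∈ (H₁ : Set G) * (H₂ : Set G) := by
      rw [← hdec]; exact g.2
    obtain ⟨a, ha, b, hb, hab⟩ := hg
    simp only [SetLike.mem_coe]
    have hb' : b⁻¹ * a * b ∈ H₁ := by
      have := hnorm b⁻¹ (H₂.inv_mem hb) a ha
      simpa using this
    have heq : φ g - 1 = (φ b - 1) + φ b * (φ (b⁻¹ * a * b) - 1) := by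
      rw [← hab, mul_sub, ← map_mul]
      simp [mul_assoc]
    rw [heq]
    refine Submodule.add_mem _ (Submodule.mem_sup_left (Submodule.subset_span ⟨⟨b, hb⟩, rfl⟩))
      (Submodule.mem_sup_right ?_)
    exact Submodule.mul_mem_mul (Submodule.subset_span ⟨⟨b, hH2 hb⟩, rfl⟩)
      (Submodule.subset_span ⟨⟨_, hb'⟩, rfl⟩)
  have hBn : ∀ n : ℕ, B ^ n ≤ R := by
    intro n
    induction n with
    | zero => simpa using h1R
    | succ n ih =>
      rw [pow_succ]
      exact ((mul_le_mul' ih le_rfl).trans (mul_le_mul' le_rfl hB_R)).trans hRR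
  have hCn : ∀ n : ℕ, aug K φ H ^ n ≤ B ^ n ⊔ J := by
    intro n
    induction n with
    | zero => simp
    | succ n ih =>
      rw [pow_succ]
      refine (mul_le_mul' ih le_rfl).trans ((mul_le_mul' le_rfl hC).trans ?_)
      rw [Submodule.sup_mul, Submodule.mul_sup, Submodule.mul_sup, ← pow_succ]
      refine sup_le (sup_le le_sup_left ?_) (sup_le ?_ ?_)
      · exact ((mul_le_mul' (hBn n) le_rfl).trans hRJ).trans le_sup_right
      · exact ((mul_le_mul' le_rfl hB_R).trans hJR).trans le_sup_right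
      · exact ((mul_le_mul' le_rfl hJ_R).trans hJR).trans le_sup_right
  refine ⟨n₂ * n₁, ?_⟩
  rw [← aug_pow_eq_bot_iff (K := K), eq_bot_iff, pow_mul]
  have h3 : aug K φ H ^ n₂ ≤ J := by
    refine (hCn n₂).trans ?_
    rw [h₂]; simp
  exact (pow_le_pow_left' h3 n₁).trans hJ0.le

end K928.UnipSup
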