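import Mathlib.RingTheory.RootsOfUnity.CyclotomicUnits
import Mathlib.RingTheory.Polynomial.Cyclotomic.Eval
import Mathlib.GroupTheory.OrderOfElement
import Mathlib.Tactic.NormNum.Prime
import Mathlib.Tactic.IntervalCases

/-! Roots of unity congruent to one modulo a square root of `n`. -/

set_option autoImplicit false
universe u

namespace K928.RootSq

open Polynomial

variable {O : Type u} [CommRing O] [IsDomain O]

theorem associated_cyclotomic_eval_one {α : O} {m : ℕ} (hm : 0 < m) (hα : IsPrimitiveRoot α m) :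
    Associated (eval 1 (cyclotomic m O)) ((α - 1) ^ m.totient) := by
  classical
  have : NeZero m := ⟨hm.ne'⟩
  rw [cyclotomic_eq_prod_X_sub_primitiveRoots hα, eval_prod, ← hα.card_primitiveRoots,
    ← Finset.prod_const]
  refine Associated.prod _ _ _ fun μ hμ => ?_
  rw [mem_primitiveRoots hm, hα.isPrimitiveRoot_iff] at hμ
  obtain ⟨i, hi, hcop, rfl⟩ := hμ
  have := hα.associated_sub_one_pow_sub_one_of_coprime hcop
  rw [eval_sub, eval_X, eval_C]
  refine Associated.trans ?_ this.symm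
  rw [← neg_sub (α ^ i) 1]
  exact (Associated.refl _).neg_left

theorem natCast_dvd_iff [CharZero O] {a b : ℕ} (ha : 0 < a)
    (hO : ∀ p : ℕ, p.Prime → p ∣ a → ¬ IsUnit (p : O))
    (h : (a : O) ∣ (b : O)) : a ∣ b := by
  obtain ⟨g, a', b', hg, hcop, h1, h2⟩ := Nat.exists_coprime' (m := a) (n := b)
    (Nat.gcd_pos_of_pos_left b ha)
  have hg0 : (g : O) ≠ 0 := Nat.cast_ne_zero.mpr hg.ne'
  rw [h1, h2, Nat.cast_mul, Nat.cast_mul, mul_dvd_mul_iff_right hg0] at h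
  have hunit : IsUnit (a' : O) := by
    have hc : IsCoprime (a' : ℤ) (b' : ℤ) := Nat.isCoprime_iff_coprime.mpr hcop
    obtain ⟨u, v, huv⟩ := hc
    rw [isUnit_iff_dvd_one]
    have h3 : (u : O) * (a' : O) + (v : O) * (b' : O) = 1 := by exact_mod_cast congrArg (Int.cast : ℤ → O) huv
    rw [← h3]
    exact dvd_add (Dvd.intro_left _ rfl) (Dvd.dvd.mul_left h _)
  have ha' : a' = 1 := by
    by_contra hne
    obtain ⟨p, hp, hpa⟩ := Nat.exists_prime_and_dvd hne
    apply hO p hp (hpa.trans ⟨g, h1⟩)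
    obtain ⟨c, rfl⟩ := hpa
    rw [Nat.cast_mul] at hunit
    exact isUnit_of_mul_isUnit_left hunit
  rw [h1, h2, ha', one_mul]
  exact Dvd.intro_left _ rfl

theorem arith {n p r : ℕ} (hn : 2 ≤ n) (hp : p.Prime) (h : n ^ (p ^ r * (p - 1)) ∣ p ^ 2) :
    (n = 4 ∧ p ^ (r + 1) = 2) ∨ (n = 3 ∧ p ^ (r + 1) = 3) ∨ (n = 2 ∧ p ^ (r + 1) ∣ 4) := by
  have hp2 := hp.two_le
  have h0 : p ^ r * (p - 1) ≠ 0 := by
    apply mul_ne_zero (pow_ne_zero _ (by omega))
    omega
  have h1 : n ∣ p ^ 2 := (dvd_pow_self n h0).trans h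
  rw [Nat.dvd_prime_pow hp] at h1
  obtain ⟨s, hs, rfl⟩ := h1
  have hs0 : s ≠ 0 := by rintro rfl; simp at hn
  rw [← pow_mul, Nat.pow_dvd_pow_iff_le_right (by omega)] at h
  have hpr : 1 ≤ p ^ r := Nat.one_le_pow _ _ (by omega)
  -- p ≤ 3
  have hp3 : p ≤ 3 := by
    have : 1 * (1 * (p - 1)) ≤ s * (p ^ r * (p - 1)) :=
      Nat.mul_le_mul (by omega) (Nat.mul_le_mul hpr le_rfl)
    omega
  have hr : r ≤ 1 := by
    by_contra hr
    have h4 : 2 ^ 2 ≤ p ^ r := (Nat.pow_le_pow_left hp2 2).trans (Nat.pow_le_pow_right (by omega) (by omega))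
    have : 1 * (4 * 1) ≤ s * (p ^ r * (p - 1)) :=
      Nat.mul_le_mul (by omega) (Nat.mul_le_mul h4 (by omega))
    omega
  interval_cases p <;> interval_cases r <;> interval_cases s <;> simp_all

theorem main [CharZero O]
    (n : ℕ) (hn : 2 ≤ n) (hO : ∀ p : ℕ, p.Prime → p ∣ n → ¬ IsUnit (p : O))
    (α : O) (hα : IsOfFinOrder α) (h : (n : O) ∣ (α - 1) ^ 2) :
    α = 1 ∨ (n = 4 ∧ α ^ 2 = 1) ∨ (n = 3 ∧ α ^ 3 = 1) ∨ (n = 2 ∧ α ^ 4 = 1) := by
  by_cases h1 : α = 1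
  · exact Or.inl h1
  right
  set m := orderOf α with hm
  have hm0 : 0 < m := hα.orderOf_pos
  have hprim : IsPrimitiveRoot α m := IsPrimitiveRoot.orderOf α
  have hm1 : m ≠ 1 := fun h => h1 (orderOf_eq_one_iff.mp h)
  have hassoc := associated_cyclotomic_eval_one hm0 hprim
  have htot : m.totient ≠ 0 := (Nat.totient_pos.mpr hm0).ne'
  by_cases hpp : ∃ p : ℕ, p.Prime ∧ ∃ r : ℕ, p ^ r = m
  · obtain ⟨p, hp, r, hr⟩ := hpp
    have hr0 : r ≠ 0 := by rintro rfl; exact hm1 (by rw [← hr, pow_zero])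
    obtain ⟨r, rfl⟩ := Nat.exists_eq_succ_of_ne_zero hr0
    have : Fact p.Prime := ⟨hp⟩
    rw [← hr, Nat.succ_eq_add_one, eval_one_cyclotomic_prime_pow, hr] at hassoc
    have h2 : ((n ^ m.totient : ℕ) : O) ∣ ((p ^ 2 : ℕ) : O) := by
      push_cast
      calc (n : O) ^ m.totient ∣ ((α - 1) ^ 2) ^ m.totient := pow_dvd_pow_of_dvd h _
        _ = ((α - 1) ^ m.totient) ^ 2 := by rw [← pow_mul, ← pow_mul, mul_comm]
        _ ∣ (p : O) ^ 2 := pow_dvd_pow_of_dvd hassoc.symm.dvd 2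
    have h3 : n ^ m.totient ∣ p ^ 2 := by
      apply natCast_dvd_iff (O := O) (pow_pos (by omega) _) _ h2
      intro q hq hqn
      exact hO q hq (hq.dvd_of_dvd_pow hqn)
    rw [← hr, Nat.totient_prime_pow_succ hp] at h3
    have hpow : α ^ m = 1 := pow_orderOf_eq_one α
    rcases arith hn hp h3 with ⟨h4, h5⟩ | ⟨h4, h5⟩ | ⟨h4, h5⟩
    · left
      refine ⟨h4, ?_⟩
      rwa [← h5, hr]
    · right; left
      refine ⟨h4, ?_⟩
      rwa [← h5, hr]
    · right; right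
      refine ⟨h4, ?_⟩
      rw [Nat.succ_eq_add_one] at hr
      rw [hr] at h5
      obtain ⟨c, hc⟩ := h5
      rw [hc, pow_mul, hpow, one_pow]
  · exfalso
    push Not at hpp
    rw [eval_one_cyclotomic_not_prime_pow (fun {p} hp k => hpp p hp k)] at hassoc
    have hu : IsUnit (α - 1) := by
      have : IsUnit ((α - 1) ^ m.totient) := hassoc.isUnit isUnit_one
      exact (isUnit_pow_iff htot).mp this
    have hun : IsUnit (n : O) := isUnit_of_dvd_unit h (hu.pow 2)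
    obtain ⟨p, hp, hpn⟩ := Nat.exists_prime_and_dvd (show n ≠ 1 by omega)
    apply hO p hp hpn
    obtain ⟨c, rfl⟩ := hpn
    rw [Nat.cast_mul] at hun
    exact isUnit_of_mul_isUnit_left hun

end K928.RootSq
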