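import Mathlib.NumberTheory.Padics.RingHoms
import Mathlib.LinearAlgebra.FreeModule.PID
import Mathlib.GroupTheory.Index
import Mathlib.Algebra.Module.Torsion.Basic
import Mathlib.LinearAlgebra.Dimension.RankNullity
import Mathlib.LinearAlgebra.Dimension.Localization
import Mathlib.LinearAlgebra.FiniteDimensional.Lemmas
import Mathlib.Tactic.NoncommRing

/-! Torsion of the coinvariants of an automorphism of order `ℓ` of a free `ℤ_ℓ`-module. -/

set_option autoImplicit false
universe u v

namespace K928.Coinv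

open Module

variable {ℓ : ℕ} [hℓ : Fact ℓ.Prime]

/-- multiplication by `ℓ` on a free module has index `ℓ ^ rank` -/
theorem index_range_smul (N : Type u) [AddCommGroup N] [Module ℤ_[ℓ] N] [Module.Free ℤ_[ℓ] N]
    [Module.Finite ℤ_[ℓ] N] :
    (LinearMap.range ((ℓ : ℤ_[ℓ]) • (LinearMap.id : N →ₗ[ℤ_[ℓ]] N))).toAddSubgroup.index =
      ℓ ^ finrank ℤ_[ℓ] N := by
  let b := Module.finBasis ℤ_[ℓ] N
  let F : N →+ (Fin (finrank ℤ_[ℓ] N) → ZMod ℓ) :=
    { toFun := fun x i => PadicInt.toZMod (b.equivFun x i)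
      map_zero' := by ext i; simp
      map_add' := by intro x y; ext i; simp }
  have hF : Function.Surjective F := by
    intro y
    refine ⟨b.equivFun.symm (fun i => (((y i).val : ℕ) : ℤ_[ℓ])), ?_⟩
    ext i
    simp only [F, AddMonoidHom.coe_mk, ZeroHom.coe_mk, LinearEquiv.apply_symm_apply, map_natCast]
    exact ZMod.natCast_zmod_val (y i)
  have hker : (LinearMap.range ((ℓ : ℤ_[ℓ]) • (LinearMap.id : N →ₗ[ℤ_[ℓ]] N))).toAddSubgroup =
      F.ker := by
    ext x
    constructor
    · rintro ⟨y, rfl⟩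
      rw [AddMonoidHom.mem_ker]
      ext i
      simp [F]
    · intro hx
      rw [AddMonoidHom.mem_ker] at hx
      have h1 : ∀ i, ∃ c : ℤ_[ℓ], b.equivFun x i = ℓ * c := by
        intro i
        have h2 : PadicInt.toZMod (b.equivFun x i) = 0 := congrFun hx i
        have h3 : b.equivFun x i ∈ RingHom.ker (PadicInt.toZMod : ℤ_[ℓ] →+* ZMod ℓ) := h2
        rw [PadicInt.ker_toZMod, PadicInt.maximalIdeal_eq_span_p, Ideal.mem_span_singleton] at h3
        exact h3
      choose c hc using h1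
      refine ⟨b.equivFun.symm c, ?_⟩
      apply b.equivFun.injective
      ext i
      simp only [LinearMap.smul_apply, LinearMap.id_apply, map_smul, LinearEquiv.apply_symm_apply,
        Pi.smul_apply, smul_eq_mul]
      exact (hc i).symm
  rw [hker, AddSubgroup.index_ker, AddMonoidHom.range_eq_top.mpr hF]
  simp [Nat.card_eq_fintype_card]

variable {M : Type u} [AddCommGroup M] [Module ℤ_[ℓ] M] [Module.Free ℤ_[ℓ] M]
  [Module.Finite ℤ_[ℓ] M]

/-- restriction of `f` to the kernel of a projector. -/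
noncomputable def rst (E f : Module.End ℤ_[ℓ] M) (hEf : E * f = 0) : LinearMap.ker E →ₗ[ℤ_[ℓ]] LinearMap.ker E :=
  (f.domRestrict (LinearMap.ker E)).codRestrict (LinearMap.ker E) (fun x => by
    rw [LinearMap.mem_ker]
    exact LinearMap.congr_fun hEf (x : M))

theorem rst_apply (E f : Module.End ℤ_[ℓ] M) (hEf : E * f = 0) (x : LinearMap.ker E) :
    ((rst E f hEf x : LinearMap.ker E) : M) = f x := rfl

theorem torsion_aux (E f : Module.End ℤ_[ℓ] M) (hE : E * E = E) (hfE : f * E = 0) (hEf : E * f = 0)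
    (h : ∀ x, E x = 0 → ∃ y, (ℓ : ℤ_[ℓ]) • x = f y) :
    (∀ x ∈ Submodule.torsion ℤ_[ℓ] (M ⧸ LinearMap.range f), (ℓ : ℤ_[ℓ]) • x = 0) ∧
      Nat.card (Submodule.torsion ℤ_[ℓ] (M ⧸ LinearMap.range f)) =
        (LinearMap.range (rst E f hEf)).toAddSubgroup.index := by
  have hℓ0 : (ℓ : ℤ_[ℓ]) ≠ 0 := by
    exact_mod_cast hℓ.out.ne_zero
  have hmem : ∀ x ∈ Submodule.torsion ℤ_[ℓ] (M ⧸ LinearMap.range f), ∃ n : M, E n = 0 ∧
      Submodule.Quotient.mk n = x := by
    intro x hx
    obtain ⟨m, rfl⟩ := Submodule.Quotient.mk_surjective _ x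
    rw [Submodule.mem_torsion_iff] at hx
    obtain ⟨a, ha⟩ := hx
    refine ⟨m, ?_, rfl⟩
    have h1 : (a : ℤ_[ℓ]) • m ∈ LinearMap.range f := by
      rw [← Submodule.Quotient.mk_eq_zero, Submodule.Quotient.mk_smul]
      exact ha
    obtain ⟨y, hy⟩ := h1
    have h2 : (a : ℤ_[ℓ]) • E m = 0 := by
      rw [← map_smul, ← hy]
      exact LinearMap.congr_fun hEf y
    exact (smul_eq_zero.mp h2).resolve_left (nonZeroDivisors.ne_zero a.2)
  have hkill : ∀ n : M, E n = 0 →
      (ℓ : ℤ_[ℓ]) • (Submodule.Quotient.mk n : M ⧸ LinearMap.range f) = 0 := by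
    intro n hn
    obtain ⟨y, hy⟩ := h n hn
    rw [← Submodule.Quotient.mk_smul, Submodule.Quotient.mk_eq_zero, hy]
    exact ⟨y, rfl⟩
  refine ⟨?_, ?_⟩
  · intro x hx
    obtain ⟨n, hn, rfl⟩ := hmem x hx
    exact hkill n hn
  · -- the map N → torsion
    let G : LinearMap.ker E →+ Submodule.torsion ℤ_[ℓ] (M ⧸ LinearMap.range f) :=
      { toFun := fun n => ⟨Submodule.Quotient.mk (n : M), by
          rw [Submodule.mem_torsion_iff]
          exact ⟨⟨(ℓ : ℤ_[ℓ]), mem_nonZeroDivisors_of_ne_zero hℓ0⟩, hkill _ n.2⟩⟩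
        map_zero' := rfl
        map_add' := fun x y => rfl }
    have hG : Function.Surjective G := by
      rintro ⟨x, hx⟩
      obtain ⟨n, hn, rfl⟩ := hmem x hx
      exact ⟨⟨n, hn⟩, rfl⟩
    have hker : (LinearMap.range (rst E f hEf)).toAddSubgroup = G.ker := by
      ext x
      constructor
      · rintro ⟨y, rfl⟩
        rw [AddMonoidHom.mem_ker]
        apply Subtype.ext
        change (Submodule.Quotient.mk (f y) : M ⧸ LinearMap.range f) = 0
        rw [Submodule.Quotient.mk_eq_zero]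
        exact ⟨y, rfl⟩
      · intro hx
        rw [AddMonoidHom.mem_ker] at hx
        have h1 : (Submodule.Quotient.mk (x : M) : M ⧸ LinearMap.range f) = 0 :=
          congrArg Subtype.val hx
        rw [Submodule.Quotient.mk_eq_zero] at h1
        obtain ⟨m, hm⟩ := h1
        have hmem : m - E m ∈ LinearMap.ker E := by
          rw [LinearMap.mem_ker, map_sub]
          have : E (E m) = E m := LinearMap.congr_fun hE m
          rw [this, sub_self]
        refine ⟨⟨m - E m, hmem⟩, ?_⟩
        apply Subtype.ext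
        rw [rst_apply, map_sub]
        have h2 : f (E m) = 0 := LinearMap.congr_fun hfE m
        simp only [h2, sub_zero, hm]
    rw [hker, AddSubgroup.index_ker, AddMonoidHom.range_eq_top.mpr hG]
    simp

theorem rank_aux (E f : Module.End ℤ_[ℓ] M) (hE : E * E = E) (hfE : f * E = 0)
    (hker : ∀ x, f x = 0 → E x = x) :
    finrank ℤ_[ℓ] M - finrank ℤ_[ℓ] (LinearMap.ker f) = finrank ℤ_[ℓ] (LinearMap.ker E) := by
  have h1 : LinearMap.ker f = LinearMap.range E := by
    ext x
    rw [LinearMap.mem_ker]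
    constructor
    · intro hx
      exact ⟨x, hker x hx⟩
    · rintro ⟨y, rfl⟩
      exact LinearMap.congr_fun hfE y
  have h2 := Submodule.finrank_quotient_add_finrank (LinearMap.ker E)
  rw [LinearEquiv.finrank_eq (LinearMap.quotKerEquivRange E)] at h2
  rw [h1]
  omega

theorem main (f : Module.End ℤ_[ℓ] M) (A : M ≃ₗ[ℤ_[ℓ]] M) (hA : A ^ ℓ = 1)
    (hf : f = (A : M →ₗ[ℤ_[ℓ]] M) - 1)
    (hcase : (ℓ = 2 ∧ ∃ B : Module.End ℤ_[ℓ] M, f = (2 : ℤ_[ℓ]) • B) ∨
      (ℓ = 2 ∧ ∃ B : Module.End ℤ_[ℓ] M, f ^ 2 = (4 : ℤ_[ℓ]) • B) ∨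
      (ℓ = 3 ∧ ∃ B : Module.End ℤ_[ℓ] M, f ^ 2 = (3 : ℤ_[ℓ]) • B))
    (c : ℕ) (hc : c = Module.finrank ℤ_[ℓ] M - Module.finrank ℤ_[ℓ] (LinearMap.ker f)) :
    (∀ x ∈ Submodule.torsion ℤ_[ℓ] (M ⧸ LinearMap.range f), (ℓ : ℤ_[ℓ]) • x = 0) ∧
      ∃ r : ℕ, r * (ℓ - 1) = c ∧
        Nat.card (Submodule.torsion ℤ_[ℓ] (M ⧸ LinearMap.range f)) = ℓ ^ r := by
  have htf : ∀ (a : ℤ_[ℓ]) (X Y : Module.End ℤ_[ℓ] M), a ≠ 0 → a • X = a • Y → X = Y := by
    intro a X Y ha h
    ext x
    have := LinearMap.congr_fun h x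
    simp only [LinearMap.smul_apply] at this
    exact smul_right_injective M ha this
  have hA1 : (1 + f) ^ ℓ = 1 := by
    have h1 : (1 + f : Module.End ℤ_[ℓ] M) = LinearEquiv.automorphismGroup.toLinearMapMonoidHom A := by
      rw [hf]; simp
    rw [h1, ← map_pow, hA, map_one]
  have hcase2 : (ℓ = 2 ∧ ∃ B : Module.End ℤ_[ℓ] M, f = (2 : ℤ_[ℓ]) • B) ∨
      (ℓ = 3 ∧ ∃ B : Module.End ℤ_[ℓ] M, f ^ 2 = (3 : ℤ_[ℓ]) • B) := by
    rcases hcase with h | ⟨h2, B, hB⟩ | h
    · exact Or.inl h
    · refine Or.inl ⟨h2, -B, ?_⟩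
      subst h2
      have h20 : (2 : ℤ_[2]) ≠ 0 := by norm_num
      have h3 : f ^ 2 = (-2 : ℤ_[2]) • f := by
        have : (1 + f) ^ 2 = 1 + (2 : ℤ_[2]) • f + f ^ 2 := by
          rw [two_smul]; noncomm_ring
        rw [this] at hA1
        have h4 : (2 : ℤ_[2]) • f + f ^ 2 = 0 := by
          have := congrArg (fun z => z - 1) hA1
          simp only [sub_self] at this
          rw [← this]; abel
        rw [neg_smul, eq_neg_iff_add_eq_zero, add_comm]
        exact h4
      apply htf (-2) _ _ (neg_ne_zero.mpr h20)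
      rw [← h3, hB, smul_smul, smul_neg, ← neg_smul]
      norm_num
    · exact Or.inr h
  have hfrk : Module.Free ℤ_[ℓ] (LinearMap.ker f) := inferInstance
  rcases hcase2 with ⟨h2, B, hB⟩ | ⟨h3, B, hB⟩
  · subst h2
    have h20 : (2 : ℤ_[2]) ≠ 0 := by norm_num
    have hBB : B * B = -B := by
      apply htf 4 _ _ (by norm_num)
      have h5 : (1 + f) ^ 2 = 1 + ((2 : ℤ_[2]) • f + f * f) := by
        rw [two_smul]; noncomm_ring
      rw [h5, add_eq_left, hB] at hA1
      have h6 : (2 : ℤ_[2]) • B * (2 : ℤ_[2]) • B = (4 : ℤ_[2]) • (B * B) := by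
        rw [smul_mul_smul_comm]; norm_num
      rw [h6, smul_smul] at hA1
      rw [smul_neg, eq_neg_iff_add_eq_zero, add_comm, ← hA1]
      norm_num
    set E : Module.End ℤ_[2] M := 1 + B with hEdef
    have hE : E * E = E := by
      rw [hEdef, add_mul, mul_add, mul_add, hBB]; simp
    have hfE : f * E = 0 := by
      rw [hB, hEdef, smul_mul_assoc, mul_add, hBB, mul_one, add_neg_cancel, smul_zero]
    have hEf : E * f = 0 := by
      rw [hB, hEdef, mul_smul_comm, add_mul, hBB, one_mul, add_neg_cancel, smul_zero]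
    have hEB : ∀ x, E x = 0 → B x = -x := by
      intro x hx
      rw [hEdef, LinearMap.add_apply, Module.End.one_apply] at hx
      exact (neg_eq_of_add_eq_zero_right hx).symm
    have hkill : ∀ x, E x = 0 → ∃ y, ((2 : ℕ) : ℤ_[2]) • x = f y := by
      intro x hx
      refine ⟨-x, ?_⟩
      rw [map_neg, hB, LinearMap.smul_apply, hEB x hx]
      simp
    have hkerE : ∀ x, f x = 0 → E x = x := by
      intro x hx
      rw [hB, LinearMap.smul_apply] at hx
      have := (smul_eq_zero.mp hx).resolve_left h20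
      rw [hEdef, LinearMap.add_apply, this, Module.End.one_apply, add_zero]
    obtain ⟨h7, h8⟩ := torsion_aux E f hE hfE hEf hkill
    refine ⟨h7, c, by simp, ?_⟩
    rw [h8, hc, rank_aux E f hE hfE hkerE, ← index_range_smul]
    congr 2
    ext x
    constructor
    · rintro ⟨y, rfl⟩
      refine ⟨-y, ?_⟩
      apply Subtype.ext
      change (((2 : ℕ) : ℤ_[2]) • (-(y : M))) = f (y : M)
      rw [hB, LinearMap.smul_apply, hEB y y.2]
      simp
    · rintro ⟨y, rfl⟩
      refine ⟨-y, ?_⟩
      apply Subtype.ext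
      change f (-(y : M)) = ((2 : ℕ) : ℤ_[2]) • (y : M)
      rw [map_neg, hB, LinearMap.smul_apply, hEB y y.2]
      simp
  · subst h3
    have h30 : (3 : ℤ_[3]) ≠ 0 := by norm_num
    -- B commutes with f
    have hcomm : f * B = B * f := by
      apply htf 3 _ _ h30
      rw [← mul_smul_comm, ← smul_mul_assoc, ← hB]
      noncomm_ring
    have hff : f * f = (3 : ℤ_[3]) • B := by rw [← hB, pow_two]
    have hfE0 : f * (1 + f + B) = 0 := by
      apply htf 3 _ _ h30
      have h5 : (1 + f) ^ 3 = 1 + ((3 : ℤ_[3]) • f + (3 : ℤ_[3]) • (f * f) + f * (f * f)) := by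
        have h3s : ∀ X : Module.End ℤ_[3] M, (3 : ℤ_[3]) • X = X + X + X := by
          intro X
          have : (3 : ℤ_[3]) = 1 + 1 + 1 := by norm_num
          rw [this, add_smul, add_smul, one_smul]
        rw [h3s, h3s]
        noncomm_ring
      rw [h5, add_eq_left] at hA1
      rw [smul_zero, ← hA1, mul_add, mul_add, mul_one, smul_add, smul_add]
      congr 1
      rw [hff, mul_smul_comm]
    set E : Module.End ℤ_[3] M := 1 + f + B with hEdef
    have hEf : E * f = 0 := by
      rw [← hfE0, hEdef]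
      simp only [mul_add, add_mul, mul_one, one_mul, hcomm]
    have hEB : E * B = 0 := by
      apply htf 3 _ _ h30
      rw [← mul_smul_comm, ← hff, ← mul_assoc, hEf, zero_mul, smul_zero]
    have hE : E * E = E := by
      conv_lhs => rw [show E * E = E * (1 + f + B) from rfl]
      rw [mul_add, mul_add, hEf, hEB, mul_one, add_zero, add_zero]
    have hEBx : ∀ x, E x = 0 → B x = -(x + f x) := by
      intro x hx
      rw [hEdef, LinearMap.add_apply, LinearMap.add_apply, Module.End.one_apply] at hx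
      exact (neg_eq_of_add_eq_zero_right hx).symm
    have hffx : ∀ x, E x = 0 → f (f x) = -((3 : ℤ_[3]) • (x + f x)) := by
      intro x hx
      have : f (f x) = (3 : ℤ_[3]) • B x := LinearMap.congr_fun hff x
      rw [this, hEBx x hx, smul_neg]
    have hAx : ∀ x, x + f x = A x := by
      intro x; rw [hf]; simp
    -- for x in ker E: A.symm x ∈ ker E
    have hEA : ∀ x, E x = 0 → E (A.symm x) = 0 := by
      intro x hx
      have h9 : E (A (A.symm x)) = E (A.symm x) := by
        rw [← hAx, map_add]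
        have : E (f (A.symm x)) = 0 := LinearMap.congr_fun hEf _
        rw [this, add_zero]
      rw [← h9, LinearEquiv.apply_symm_apply, hx]
    have hkey : ∀ x, E x = 0 → f (f (-(A.symm x))) = (3 : ℤ_[3]) • x := by
      intro x hx
      rw [map_neg, map_neg, hffx _ (hEA x hx), hAx, LinearEquiv.apply_symm_apply, neg_neg]
    have hkill : ∀ x, E x = 0 → ∃ y, ((3 : ℕ) : ℤ_[3]) • x = f y := by
      intro x hx
      refine ⟨f (-(A.symm x)), ?_⟩
      rw [hkey x hx]
      norm_num
    have hkerE : ∀ x, f x = 0 → E x = x := by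
      intro x hx
      have h10 : (3 : ℤ_[3]) • B x = 0 := by
        have : f (f x) = (3 : ℤ_[3]) • B x := LinearMap.congr_fun hff x
        rw [← this, hx, map_zero]
      have := (smul_eq_zero.mp h10).resolve_left h30
      rw [hEdef, LinearMap.add_apply, LinearMap.add_apply, this, hx, Module.End.one_apply,
        add_zero, add_zero]
    obtain ⟨h7, h8⟩ := torsion_aux E f hE hfE0 hEf hkill
    refine ⟨h7, ?_⟩
    rw [h8]
    set φ := rst E f hEf with hφ
    have hinj : Function.Injective φ := by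
      rw [← LinearMap.ker_eq_bot, LinearMap.ker_eq_bot']
      intro x hx
      have h11 : f x = 0 := congrArg Subtype.val hx
      have h12 := hkerE x h11
      have h13 : E x = 0 := x.2
      apply Subtype.ext
      rw [← h12, h13]
      rfl
    have hsq : (LinearMap.range φ).toAddSubgroup.index * (LinearMap.range φ).toAddSubgroup.index =
        3 ^ c := by
      have h14 : (LinearMap.range (((3 : ℕ) : ℤ_[3]) •
          (LinearMap.id : LinearMap.ker E →ₗ[ℤ_[3]] LinearMap.ker E))).toAddSubgroup =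
          AddSubgroup.map φ.toAddMonoidHom (LinearMap.range φ).toAddSubgroup := by
        ext x
        constructor
        · rintro ⟨y, rfl⟩
          refine ⟨φ ⟨-(A.symm (y : M)), ?_⟩, ⟨_, rfl⟩, ?_⟩
          · rw [LinearMap.mem_ker, map_neg, hEA _ y.2, neg_zero]
          · apply Subtype.ext
            change f (f (-(A.symm (y : M)))) = (((3 : ℕ) : ℤ_[3]) • (y : M))
            rw [hkey _ y.2]; norm_num
        · rintro ⟨_, ⟨y, rfl⟩, rfl⟩
          have hmem : A (y : M) ∈ LinearMap.ker E := by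
            rw [LinearMap.mem_ker, ← hAx, map_add, y.2]
            have : E (f y) = 0 := LinearMap.congr_fun hEf _
            rw [this, add_zero]
          refine ⟨-⟨A (y : M), hmem⟩, ?_⟩
          apply Subtype.ext
          change (((3 : ℕ) : ℤ_[3]) • (-(A y : M))) = f (f (y : M))
          rw [hffx _ y.2, hAx]
          norm_num
      rw [hc, rank_aux E f hE hfE0 hkerE, ← index_range_smul, h14]
      have htop : (LinearMap.range φ).toAddSubgroup = AddSubgroup.map φ.toAddMonoidHom ⊤ := by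
        ext x; simp
      have hle : AddSubgroup.map φ.toAddMonoidHom (LinearMap.range φ).toAddSubgroup ≤
          AddSubgroup.map φ.toAddMonoidHom ⊤ := AddSubgroup.map_mono le_top
      rw [← AddSubgroup.relIndex_mul_index hle,
        AddSubgroup.relIndex_map_map_of_injective _ _ hinj, AddSubgroup.relIndex_top_right,
        ← htop]
    have hdvd : (LinearMap.range φ).toAddSubgroup.index ∣ 3 ^ c := ⟨_, hsq.symm⟩
    rw [Nat.dvd_prime_pow Nat.prime_three] at hdvd
    obtain ⟨r, -, hr⟩ := hdvd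
    refine ⟨r, ?_, hr⟩
    rw [hr, ← pow_add] at hsq
    have := Nat.pow_right_injective (le_refl 2 |>.trans (by norm_num : 2 ≤ 3)) hsq
    omega

end K928.Coinv
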