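import Mathlib.LinearAlgebra.Matrix.Charpoly.Coeff
import Mathlib.NumberTheory.Padics.PadicIntegers
import Mathlib.RingTheory.IntegralClosure.IsIntegral.Basic
import Mathlib.RingTheory.IntegralClosure.IsIntegralClosure.Basic
import Mathlib.Data.Nat.Factorization.Basic
import Mathlib.Tactic.NoncommRing

/-! Integrality of `(α - 1) / √n` for the roots `α` of a characteristic polynomial. -/

set_option autoImplicit false
universe u v

namespace K928.CharSq

open Polynomial Matrix

section charpoly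

variable {R : Type u} [CommRing R] {n : Type v} [Fintype n] [DecidableEq n]

theorem mapMatrix_scalar {S : Type v} [CommRing S] (f : R →+* S) (a : R) :
    f.mapMatrix (scalar n a) = scalar n (f a) := by
  ext i j
  by_cases h : i = j
  · subst h; simp
  · simp [h]

theorem comp_charpoly (D : Matrix n n R) (p : R[X]) :
    D.charpoly.comp p = (scalar n p - (C : R →+* R[X]).mapMatrix D).det := by
  have h : D.charpoly.comp p = (Polynomial.compRingHom p) D.charpoly := rfl
  rw [h, Matrix.charpoly, RingHom.map_det]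
  congr 1
  ext i j
  by_cases h : i = j
  · subst h; simp [charmatrix]
  · simp [charmatrix, h]

theorem expand_charpoly_sq (D : Matrix n n R) :
    expand R 2 (D ^ 2).charpoly = (-1) ^ Fintype.card n * D.charpoly * D.charpoly.comp (-X) := by
  have h0 : expand R 2 (D ^ 2).charpoly = (D ^ 2).charpoly.comp (X ^ 2) := by
    rw [expand_eq_comp_X_pow]
  rw [h0, comp_charpoly, comp_charpoly]
  have h1 : scalar n ((X : R[X]) ^ 2) - (C : R →+* R[X]).mapMatrix (D ^ 2) =
      - ((scalar n (X : R[X]) - (C : R →+* R[X]).mapMatrix D) *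
      (scalar n (-X : R[X]) - (C : R →+* R[X]).mapMatrix D)) := by
    have hcomm : Commute (scalar n (X : R[X])) ((C : R →+* R[X]).mapMatrix D) :=
      Matrix.scalar_commute _ (fun r => Commute.all _ _) _
    rw [map_pow, map_pow, map_neg, sub_mul, mul_sub, mul_sub, mul_neg, mul_neg, hcomm.eq, pow_two,
      pow_two]
    abel
  rw [h1, Matrix.det_neg, Matrix.det_mul, Matrix.charpoly, charmatrix]
  ring

end charpoly

theorem dvd_of_forall_padic {m : ℕ} {c : ℤ}
    (h : ∀ (ℓ : ℕ) [Fact ℓ.Prime], ℓ ∣ m → (m : ℤ_[ℓ]) ∣ (c : ℤ_[ℓ])) : (m : ℤ) ∣ c := by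
  rw [Int.natCast_dvd, Nat.dvd_iff_prime_pow_dvd_dvd]
  intro p k hp hpk
  rcases Nat.eq_zero_or_pos k with rfl | hk
  · simp
  have hfact : Fact p.Prime := ⟨hp⟩
  have h1 := h p ((dvd_pow_self p hk.ne').trans hpk)
  have h2 : (p : ℤ_[p]) ^ k ∣ (m : ℤ_[p]) := by
    obtain ⟨d, rfl⟩ := hpk
    push_cast
    exact Dvd.intro _ rfl
  have h3 := (PadicInt.pow_p_dvd_int_iff k c).mp (h2.trans h1)
  rw [← Int.natCast_dvd]
  exact_mod_cast h3

theorem contract_even {P : ℤ[X]} (hP : P.comp (-X) = P) : expand ℤ 2 (contract 2 P) = P := by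
  ext i
  rw [coeff_expand (by norm_num)]
  split_ifs with h
  · rw [coeff_contract (by norm_num), Nat.div_mul_cancel h]
  · have h1 : (P.comp (-X)).coeff i = P.coeff i := by rw [hP]
    have hX : (-X : ℤ[X]) = C (-1) * X := by simp
    rw [hX, comp_C_mul_X_coeff] at h1
    have hodd : Odd i := Nat.not_even_iff_odd.mp (fun he => h he.two_dvd)
    rw [hodd.neg_one_pow] at h1
    linarith

theorem main (n : ℕ) (hn : 0 < n) (g : ℕ) (f : Polynomial ℤ)
    (hf : f.Monic)
    (hA : ∀ (ℓ : ℕ) [Fact ℓ.Prime], ℓ ∣ n → ∃ A : Matrix (Fin g) (Fin g) ℤ_[ℓ],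
      A.charpoly = f.map (Int.castRingHom ℤ_[ℓ]) ∧
        ∃ B : Matrix (Fin g) (Fin g) ℤ_[ℓ], (A - 1) ^ 2 = (n : ℤ_[ℓ]) • B)
    (K : Type v) [Field K] [CharZero K] (α s : K) (hα : Polynomial.aeval α f = 0)
    (hs : s ^ 2 = (n : K)) :
    IsIntegral ℤ ((α - 1) / s) := by
  have hs0 : s ≠ 0 := by
    rintro rfl
    have : (n : K) = 0 := by rw [← hs]; simp
    exact hn.ne' (by exact_mod_cast this)
  have hαint : IsIntegral ℤ α := ⟨f, hf, hα⟩
  by_cases hn1 : n = 1
  · subst hn1
    have hsint : IsIntegral ℤ s := IsIntegral.of_pow (n := 2) (by norm_num) (by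
      rw [hs]; simpa using isIntegral_one)
    have : (α - 1) / s = (α - 1) * s := by
      rw [div_eq_iff hs0, mul_assoc, ← pow_two, hs]; simp
    rw [this]
    exact (hαint.sub isIntegral_one).mul hsint
  -- the square
  suffices h : IsIntegral ℤ ((α - 1) ^ 2 / n) by
    apply IsIntegral.of_pow (n := 2) (by norm_num)
    rwa [div_pow, hs]
  set F : ℤ[X] := f.comp (X + 1) with hF
  set P : ℤ[X] := (-1) ^ g * F * F.comp (-X) with hPdef
  have hPeven : P.comp (-X) = P := by
    rw [hPdef]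
    simp only [mul_comp, pow_comp, neg_comp, one_comp, comp_assoc, X_comp, neg_neg, comp_X]
    ring
  set q := contract 2 P with hq
  have hexp : expand ℤ 2 q = P := contract_even hPeven
  -- comparison with the characteristic polynomial
  have hloc : ∀ (ℓ : ℕ) [Fact ℓ.Prime], ℓ ∣ n → ∃ B : Matrix (Fin g) (Fin g) ℤ_[ℓ],
      q.map (Int.castRingHom ℤ_[ℓ]) = ((n : ℤ_[ℓ]) • B).charpoly := by
    intro ℓ _ hℓ
    obtain ⟨A, hA1, B, hB⟩ := hA ℓ hℓ
    refine ⟨B, ?_⟩
    rw [← hB]
    apply expand_injective (show 0 < 2 by norm_num)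
    rw [expand_charpoly_sq, ← map_expand, hexp, hPdef, Fintype.card_fin]
    have h1 : (A - 1).charpoly = F.map (Int.castRingHom ℤ_[ℓ]) := by
      have := Matrix.charpoly_sub_scalar A (1 : ℤ_[ℓ])
      rw [map_one] at this
      rw [this, hA1, hF, Polynomial.map_comp]
      simp
    rw [h1]
    simp [Polynomial.map_comp]
  obtain ⟨ℓ₀, hℓ₀, hℓ₀n⟩ := Nat.exists_prime_and_dvd hn1
  have hfact : Fact ℓ₀.Prime := ⟨hℓ₀⟩
  have hinj : Function.Injective (Int.castRingHom ℤ_[ℓ₀]) := Int.cast_injective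
  obtain ⟨B₀, hB₀⟩ := hloc ℓ₀ hℓ₀n
  have hmonic : q.Monic := by
    apply Polynomial.monic_of_injective hinj
    rw [hB₀]
    exact Matrix.charpoly_monic _
  have hdeg : q.natDegree = g := by
    rw [← Polynomial.natDegree_map_eq_of_injective hinj, hB₀, Matrix.charpoly_natDegree_eq_dim,
      Fintype.card_fin]
  have hdvd : ∀ i : ℕ, ∃ d : ℤ, q.coeff i = (n : ℤ) ^ (g - i) * d := by
    intro i
    have : ((n ^ (g - i) : ℕ) : ℤ) ∣ q.coeff i := by
      apply dvd_of_forall_padic
      intro ℓ _ hℓ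
      have hℓn : ℓ ∣ n := (Fact.out : ℓ.Prime).dvd_of_dvd_pow hℓ
      obtain ⟨B, hB⟩ := hloc ℓ hℓn
      have h1 : ((q.map (Int.castRingHom ℤ_[ℓ])).coeff i) ∈
          (Ideal.span {(n : ℤ_[ℓ])}) ^ (g - i) := by
        rw [hB]
        have := Matrix.coeff_charpoly_mem_ideal_pow (M := (n : ℤ_[ℓ]) • B)
          (I := Ideal.span {(n : ℤ_[ℓ])}) (fun a b => by
            rw [Matrix.smul_apply, smul_eq_mul]
            exact Ideal.mul_mem_right _ _ (Ideal.mem_span_singleton_self _)) i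
        rwa [Fintype.card_fin] at this
      rw [Ideal.span_singleton_pow, Ideal.mem_span_singleton, coeff_map] at h1
      simpa using h1
    obtain ⟨d, hd⟩ := this
    exact ⟨d, by rw [hd]; push_cast; ring⟩
  choose d hd using hdvd
  have hqroot : aeval ((α - 1) ^ 2) q = 0 := by
    have h1 : aeval (α - 1) (expand ℤ 2 q) = aeval ((α - 1) ^ 2) q := expand_aeval 2 q (α - 1)
    rw [← h1, hexp, hPdef, hF]
    simp only [map_mul, aeval_comp, map_add, aeval_X, map_one, sub_add_cancel, hα, mul_zero,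
      zero_mul]
  have hnK : (n : K) ≠ 0 := Nat.cast_ne_zero.mpr hn.ne'
  refine ⟨X ^ g + ∑ i : Fin g, C (d i) * X ^ (i : ℕ), monic_X_pow_add (degree_sum_fin_lt _), ?_⟩
  have h2 : (n : K) ^ g * (aeval ((α - 1) ^ 2 / (n : K))
      (X ^ g + ∑ i : Fin g, C (d i) * X ^ (i : ℕ))) = aeval ((α - 1) ^ 2) q := by
    conv_rhs => rw [hmonic.as_sum, hdeg]
    simp only [map_add, map_pow, aeval_X, map_sum, map_mul, eq_intCast, map_intCast]
    rw [mul_add, ← mul_pow, mul_div_cancel₀ _ hnK, Finset.mul_sum,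
      Finset.sum_range (fun i => ((q.coeff i : ℤ) : K) * ((α - 1) ^ 2) ^ i)]
    congr 1
    refine Finset.sum_congr rfl fun i _ => ?_
    rw [hd]
    push_cast
    have h3 : (n : K) ^ g = (n : K) ^ (g - (i : ℕ)) * (n : K) ^ (i : ℕ) := by
      rw [← pow_add, Nat.sub_add_cancel i.2.le]
    rw [h3, div_pow]
    field_simp
  rw [hqroot] at h2
  exact (mul_eq_zero.mp h2).resolve_left (pow_ne_zero _ hnK)

end K928.CharSq
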